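import Mathlib
import Cfsg.Agent.Lib.ClassSize
import Cfsg.Agent.PGroup.Frattini
import Cfsg.Agent.PGroup.Basic

set_option autoImplicit false
set_option linter.style.haveILetI false

/-! The class size graph on `p`-singular elements: linking two coprime class sizes. -/

open Subgroup
open scoped Pointwise commutatorElement

namespace Cfsg.Agent.PSingular

variable {G : Type*} [Group G] [Finite G]

/-- class size -/
noncomputable def cs (g : G) : ℕ := (centralizer ({g} : Set G)).index

theorem cs_conj (g b : G) : cs (g * b * g⁻¹) = cs b :=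
  Cfsg.Agent.ClassSize.index_centralizer_conj g b

theorem cs_eq_one {g : G} : cs g = 1 ↔ g ∈ center G :=
  Cfsg.Agent.ClassSize.index_centralizer_eq_one_iff g

theorem cs_pos (g : G) : 0 < cs g := Nat.pos_of_ne_zero index_ne_zero_of_finite

/-- A subgroup meeting every conjugacy class is everything. -/
theorem eq_top_of_meets_all {H : Type*} [Group H] [Finite H] (M : Subgroup H)
    (hM : ∀ g : H, ∃ k : H, k⁻¹ * g * k ∈ M) : M = ⊤ := by
  classical
  by_contra hne
  haveI : Fintype H := Fintype.ofFinite H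
  haveI : Fintype (H ⧸ M) := Fintype.ofFinite _
  haveI : ∀ g : H, Fintype (MulAction.fixedBy (H ⧸ M) g) := fun g => Fintype.ofFinite _
  haveI : Fintype (Quotient (MulAction.orbitRel H (H ⧸ M))) := Fintype.ofFinite _
  have hsum := MulAction.sum_card_fixedBy_eq_card_orbits_mul_card_group H (H ⧸ M)
  have horb : Fintype.card (Quotient (MulAction.orbitRel H (H ⧸ M))) = 1 := by
    rw [← Nat.card_eq_fintype_card, Nat.card_eq_one_iff_unique]
    exact ⟨(MulAction.pretransitive_iff_subsingleton_quotient H (H ⧸ M)).1 inferInstance,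
      ⟨Quotient.mk'' ((1 : H) : H ⧸ M)⟩⟩
  rw [horb, one_mul] at hsum
  have h1 : ∀ g : H, 1 ≤ Fintype.card (MulAction.fixedBy (H ⧸ M) g) := by
    intro g
    obtain ⟨k, hk⟩ := hM g
    refine Fintype.card_pos_iff.2 ⟨⟨(k : H ⧸ M), ?_⟩⟩
    rw [MulAction.mem_fixedBy, MulAction.Quotient.smul_coe, smul_eq_mul, eq_comm,
      QuotientGroup.eq]
    simpa [mul_assoc] using hk
  have h2 : 2 ≤ Fintype.card (MulAction.fixedBy (H ⧸ M) (1 : H)) := by
    rw [← Nat.card_eq_fintype_card,
      Nat.card_congr (Equiv.subtypeUnivEquiv (fun x => by simp))]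
    rw [← index_eq_card]
    have := index_ne_zero_of_finite (H := M)
    have : M.index ≠ 1 := fun h => hne (index_eq_one.1 h)
    omega
  have := Finset.sum_lt_sum (s := (Finset.univ : Finset H)) (f := fun _ => 1)
    (g := fun g => Fintype.card (MulAction.fixedBy (H ⧸ M) g)) (fun g _ => h1 g)
    ⟨1, Finset.mem_univ _, by omega⟩
  simp only [Finset.sum_const, smul_eq_mul, mul_one, Finset.card_univ] at this
  omega

theorem comm_all {a b : G} (h : (cs a).Coprime (cs b)) (hab : Commute a b) (g : G) :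
    Commute a (g * b * g⁻¹) := by
  obtain ⟨x, hx, y, hy, rfl⟩ := Cfsg.Agent.ClassSize.mul_eq_univ_of_coprime_index h g
  rw [mem_centralizer_singleton_iff] at hx hy
  have h1 := hab.map (MulAut.conj x).toMonoidHom
  have e1 : x * a * x⁻¹ = a := by rw [hx, mul_inv_cancel_right]
  have e2 : x * y * b * (x * y)⁻¹ = x * b * x⁻¹ := by
    rw [show x * y * b * (x * y)⁻¹ = x * (y * b * y⁻¹) * x⁻¹ by group, hy, mul_inv_cancel_right]
  rw [e2]
  have h1' : Commute (x * a * x⁻¹) (x * b * x⁻¹) := h1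
  rwa [e1] at h1'

variable {p : ℕ} [hp : Fact p.Prime]

theorem exists_sylow_le_of_not_dvd {g : G} (h : ¬ p ∣ cs g) :
    ∃ P : Sylow p G, (P : Subgroup G) ≤ centralizer ({g} : Set G) :=
  (Cfsg.Agent.ClassSize.coprime_index_centralizer_iff g).1
    ((Nat.coprime_comm.1 (hp.out.coprime_iff_not_dvd.2 h)))

/-- A `p`-element of a subgroup `D` that contains a Sylow subgroup lies in a Sylow subgroup of
`G` inside `D`. -/
theorem exists_sylow_mem_le {D : Subgroup G} (hD : ¬ p ∣ D.index) {u : G} (hu : u ∈ D)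
    {k : ℕ} (hk : orderOf u = p ^ k) :
    ∃ P : Sylow p G, u ∈ (P : Subgroup G) ∧ (P : Subgroup G) ≤ D := by
  obtain ⟨Q, hQ⟩ := Cfsg.Agent.Element.exists_sylow_mem (G := D) (g := ⟨u, hu⟩) (p := p)
    (k := k) (by rw [orderOf_mk]; exact hk)
  have hQp : IsPGroup p ((Q : Subgroup D).map D.subtype) := Q.isPGroup'.map _
  have hidx : ¬ p ∣ ((Q : Subgroup D).map D.subtype).index := by
    rw [index_map_subtype]
    exact fun hd => (hp.out.dvd_mul.mp hd).elim Q.not_dvd_index hD
  exact ⟨hQp.toSylow hidx, ⟨_, hQ, rfl⟩, map_subtype_le _⟩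

theorem sylow_conj_of_le {D : Subgroup G} {P Q : Sylow p G} (hP : (P : Subgroup G) ≤ D)
    (hQ : (Q : Subgroup G) ≤ D) :
    ∃ k ∈ D, ∀ x, x ∈ (Q : Subgroup G) ↔ k⁻¹ * x * k ∈ (P : Subgroup G) := by
  obtain ⟨k, hk⟩ := MulAction.exists_smul_eq D (P.subtype hP) (Q.subtype hQ)
  refine ⟨k, k.2, fun x => ?_⟩
  rw [Sylow.smul_subtype] at hk
  rw [← Sylow.subtype_injective hk]
  show x ∈ MulAut.conj (k : G) • (P : Subgroup G) ↔ _
  rw [mem_smul_pointwise_iff_exists]
  constructor
  · rintro ⟨y, hy, rfl⟩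
    simpa [MulAut.smul_def, mul_assoc] using hy
  · intro h
    exact ⟨_, h, by simp [MulAut.smul_def, mul_assoc]⟩

/-- A `p`-element with class size coprime to that of `b`, where `p` does not divide the class
size of `b`, commutes with all conjugates of `b`. -/
theorem comm_all_of_not_dvd {a b : G} {k : ℕ} (ha : orderOf a = p ^ k)
    (h : (cs a).Coprime (cs b)) (hb : ¬ p ∣ cs b) (g : G) : Commute a (g * b * g⁻¹) := by
  obtain ⟨P, hP⟩ := exists_sylow_le_of_not_dvd hb
  obtain ⟨Q, hQ⟩ := Cfsg.Agent.Element.exists_sylow_mem (p := p) ha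
  obtain ⟨c, hc⟩ := MulAction.exists_smul_eq G P Q
  have hac : c⁻¹ * a * c ∈ (P : Subgroup G) := by
    rw [← hc] at hQ
    have hQ' : a ∈ MulAut.conj c • (P : Subgroup G) := hQ
    obtain ⟨y, hy, rfl⟩ := (mem_smul_pointwise_iff_exists _ _ _).1 hQ'
    simpa [MulAut.smul_def, mul_assoc] using hy
  have h1 : Commute (c⁻¹ * a * c) b := mem_centralizer_singleton_iff.1 (hP hac)
  have h2 : Commute a (c * b * c⁻¹) := by
    have := h1.map (MulAut.conj c).toMonoidHom
    have e : c * (c⁻¹ * a * c) * c⁻¹ = a := by group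
    have this' : Commute (c * (c⁻¹ * a * c) * c⁻¹) (c * b * c⁻¹) := this
    rwa [e] at this'
  have h3 := comm_all (b := c * b * c⁻¹) (by rwa [cs_conj]) h2 (g * c⁻¹)
  have e : g * c⁻¹ * (c * b * c⁻¹) * (g * c⁻¹)⁻¹ = g * b * g⁻¹ := by group
  rwa [e] at h3

theorem pow_eq_one_of_orderOf {a : G} {k : ℕ} (ha : orderOf a = p ^ k) : a ^ p ^ k = 1 :=
  ha ▸ pow_orderOf_eq_one a

/-- If `p` does not divide the class size of `b`, the class of `a b` meets that of `a`. -/
theorem not_coprime_mul {a b : G} {k : ℕ} (ha : orderOf a = p ^ k)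
    (h : (cs a).Coprime (cs b)) (hb : ¬ p ∣ cs b) (ha1 : cs a ≠ 1) :
    ¬ (cs (a * b)).Coprime (cs a) := by
  classical
  intro hc
  have hcomm : ∀ g, Commute a (g * b * g⁻¹) := comm_all_of_not_dvd ha h hb
  have hab : Commute a b := by simpa using hcomm 1
  set A := centralizer ({a} : Set G) with hA
  set B := centralizer ({b} : Set G) with hB
  set C := centralizer ({a * b} : Set G) with hC
  have hAB : A ⊓ B = A ⊓ C := by
    ext x
    simp only [hA, hB, hC, mem_inf, mem_centralizer_singleton_iff]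
    constructor
    · rintro ⟨h1, h2⟩
      exact ⟨h1, (show Commute x (a * b) from Commute.mul_right h1 h2)⟩
    · rintro ⟨h1, h2⟩
      refine ⟨h1, ?_⟩
      have : Commute x (a⁻¹ * (a * b)) := Commute.mul_right (Commute.inv_right h1) h2
      exact (show Commute x b by simpa using this)
  have hidx : ∀ {D : Subgroup G}, A.index.Coprime D.index →
      (A ⊓ D).index = A.index * D.index := fun hco =>
    Nat.le_antisymm index_inf_le (Nat.le_of_dvd
      (Nat.pos_of_ne_zero index_ne_zero_of_finite)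
      (hco.mul_dvd_of_dvd_of_dvd (index_dvd_of_le inf_le_left) (index_dvd_of_le inf_le_right)))
  have hcs : cs (a * b) = cs b := by
    have h1 := hidx (D := B) h
    have h2 := hidx (D := C) hc.symm
    rw [hAB, h2] at h1
    exact Nat.eq_of_mul_eq_mul_left (cs_pos a) h1
  -- left translation
  have hn : ∀ z : G, (conjugatesOf z).ncard = cs z := Cfsg.Agent.ClassSize.ncard_conjugatesOf
  have htrans : ∀ g : G, (fun y => g * a * g⁻¹ * y) '' conjugatesOf b = conjugatesOf (a * b) := by
    intro g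
    refine Set.eq_of_subset_of_ncard_le ?_ ?_ (Set.toFinite _)
    · rintro _ ⟨y, hy, rfl⟩
      exact Cfsg.Agent.ClassSize.isConj_mul_of_coprime_index h (isConj_iff.2 ⟨g, rfl⟩) hy
    · rw [Set.ncard_image_of_injective _ (mul_right_injective _), hn, hn, hcs]
  apply ha1
  rw [cs_eq_one, mem_center_iff]
  intro g
  set a' := g * a * g⁻¹ with ha'
  set t := a'⁻¹ * a with ht
  have hstab : ∀ y ∈ conjugatesOf b, t * y ∈ conjugatesOf b := by
    intro y hy
    have h1 : a * y ∈ (fun y => a' * y) '' conjugatesOf b := by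
      rw [ha', htrans g]
      have := htrans 1
      rw [← this]
      exact ⟨y, hy, by simp⟩
    obtain ⟨z, hz, hze⟩ := h1
    have hze' : a' * z = a * y := hze
    have : t * y = z := by rw [ht, mul_assoc, ← hze', inv_mul_cancel_left]
    rw [this]; exact hz
  obtain ⟨w, hw⟩ := isConj_iff.1 (hstab b (IsConj.refl b))
  have hta : Commute a t := by
    have e : t = w * b * w⁻¹ * b⁻¹ := by rw [hw]; group
    rw [e]
    exact (hcomm w).mul_right hab.inv_right
  have haa : Commute a'⁻¹ a := by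
    have : Commute a (t * a⁻¹) := hta.mul_right (Commute.refl a).inv_right
    rw [ht, mul_inv_cancel_right] at this
    exact this.symm
  have htp : t ^ p ^ k = 1 := by
    rw [ht, haa.mul_pow, inv_pow, ha', conj_pow, pow_eq_one_of_orderOf ha]
    group
  haveI : Fintype (conjugatesOf b) := Fintype.ofFinite _
  have hfix : ¬ p ∣ Fintype.card (conjugatesOf b) := by
    rw [← Nat.card_eq_fintype_card, Nat.card_coe_set_eq, hn]; exact hb
  let σ : Equiv.Perm (conjugatesOf b) :=
    { toFun := fun y => ⟨t * y, hstab y y.2⟩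
      invFun := fun y => ⟨t⁻¹ * y, by
        have hpow : ∀ m : ℕ, t ^ m * (y : G) ∈ conjugatesOf b := by
          intro m
          induction m with
          | zero => simp
          | succ m ih => rw [pow_succ', mul_assoc]; exact hstab _ ih
        have : t⁻¹ = t ^ (p ^ k - 1) := by
          rw [inv_eq_iff_mul_eq_one, ← pow_succ', Nat.sub_add_cancel
            (Nat.one_le_iff_ne_zero.2 (pow_ne_zero _ hp.out.ne_zero)), htp]
        rw [this]; exact hpow _⟩
      left_inv := fun y => Subtype.ext (inv_mul_cancel_left _ _)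
      right_inv := fun y => Subtype.ext (mul_inv_cancel_left _ _) }
  have hσ : σ ^ p ^ k = 1 := by
    ext y
    have : ∀ m : ℕ, (((σ ^ m) y : conjugatesOf b) : G) = t ^ m * (y : G) := by
      intro m
      induction m with
      | zero => simp
      | succ m ih =>
        rw [pow_succ', Equiv.Perm.mul_apply, pow_succ', mul_assoc, ← ih]; rfl
    rw [this, htp]; simp
  obtain ⟨y, hy⟩ := Equiv.Perm.exists_fixed_point_of_prime hfix hσ
  have : t * (y : G) = y := congrArg Subtype.val hy
  rw [mul_eq_right, ht, inv_mul_eq_one, ha', mul_inv_eq_iff_eq_mul] at this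
  exact this

theorem exists_cs_ne_one {z : G} (hz : cs z ≠ 1) : ∃ t, t.Prime ∧ t ∣ cs z :=
  ⟨_, Nat.minFac_prime hz, Nat.minFac_dvd _⟩

/-- Main case: no linking is impossible. -/
theorem far_false (hZ : ¬ p ∣ Nat.card (center G)) {a b : G} (ha : orderOf a = p)
    (hb : orderOf b = p) (hco : (cs a).Coprime (cs b)) (hpa : p ∣ cs a) (hpb : ¬ p ∣ cs b)
    (far : ∀ e : G, p ∣ orderOf e → (cs e).Coprime (cs a) ∨ (cs e).Coprime (cs b)) : False := by
  classical
  have hb1 : cs b ≠ 1 := by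
    rw [Ne, cs_eq_one]
    intro h
    apply hZ
    have := orderOf_dvd_natCard (⟨b, h⟩ : center G)
    rwa [orderOf_mk, hb] at this
  set D := centralizer ({b} : Set G) with hD
  have hDi : ¬ p ∣ D.index := hpb
  obtain ⟨P, hPD⟩ := exists_sylow_le_of_not_dvd hpb
  -- structure of `D`
  set M₀ := (P : Subgroup G) ⊔ (centralizer ((P : Subgroup G) : Set G) ⊓ D) with hM₀
  have hM₀D : M₀ ≤ D := sup_le hPD inf_le_right
  have hM₀N : M₀ ≤ normalizer ((P : Subgroup G) : Set G) :=
    sup_le le_normalizer (inf_le_left.trans (centralizer_le_normalizer _))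
  have htop : M₀.subgroupOf D = ⊤ := by
    apply eq_top_of_meets_all
    rintro ⟨g, hg⟩
    set s := Cfsg.Agent.Element.pComplPart p g with hs
    set u := Cfsg.Agent.Element.pPart p g with hu
    have hsD : s ∈ D := (zpowers_le.2 hg) (Cfsg.Agent.Element.pComplPart_mem_zpowers p g)
    have huD : u ∈ D := (zpowers_le.2 hg) (Cfsg.Agent.Element.pPart_mem_zpowers p g)
    have hbs : Commute b s := (mem_centralizer_singleton_iff.1 hsD).symm
    have hcop : (orderOf b).Coprime (orderOf s) := by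
      rw [hb]; exact (Cfsg.Agent.Element.coprime_orderOf_pComplPart hp.out g).symm
    have hC := Cfsg.Agent.Element.centralizer_mul_of_coprime hbs hcop
    have hpe : p ∣ orderOf (b * s) := by
      rw [hbs.orderOf_mul_eq_mul_orderOf_of_coprime hcop, hb]; exact dvd_mul_right _ _
    have hdvd : cs b ∣ cs (b * s) := index_dvd_of_le (hC.trans_le inf_le_left)
    have hpbs : ¬ p ∣ cs (b * s) := by
      rcases far _ hpe with h | h
      · exact fun hd => (Nat.Prime.not_coprime_iff_dvd.2 ⟨p, hp.out, hd, hpa⟩) h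
      · exact absurd (Nat.Coprime.eq_one_of_dvd (h.coprime_dvd_left hdvd) dvd_rfl) hb1
    have huC : u ∈ centralizer ({b * s} : Set G) := by
      rw [hC]
      exact ⟨huD, mem_centralizer_singleton_iff.2
        (Cfsg.Agent.Element.commute_pPart_pComplPart p g)⟩
    obtain ⟨Q, huQ, hQC⟩ := exists_sylow_mem_le hpbs huC
      (Cfsg.Agent.Element.orderOf_pPart_eq_pow hp.out g)
    rw [hC] at hQC
    obtain ⟨k, hk, hkQ⟩ := sylow_conj_of_le hPD (hQC.trans inf_le_left)
    refine ⟨⟨k, hk⟩, ?_⟩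
    show k⁻¹ * g * k ∈ M₀
    have e : k⁻¹ * g * k = (k⁻¹ * u * k) * (k⁻¹ * s * k) := by
      conv_lhs => rw [← Cfsg.Agent.Element.pPart_mul_pComplPart p g]
      rw [hu, hs]; group
    rw [e]
    refine mul_mem (mem_sup_left ((hkQ u).1 huQ)) (mem_sup_right ⟨?_, ?_⟩)
    · intro x hx
      have hx' : k * x * k⁻¹ ∈ (Q : Subgroup G) := by
        rw [hkQ, show k⁻¹ * (k * x * k⁻¹) * k = x by group]; exact hx
      have := mem_centralizer_singleton_iff.1 (hQC hx').2
      calc x * (k⁻¹ * s * k) = k⁻¹ * ((k * x * k⁻¹) * s) * k := by group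
        _ = k⁻¹ * (s * (k * x * k⁻¹)) * k := by rw [this]
        _ = k⁻¹ * s * k * x := by group
    · exact D.mul_mem (D.mul_mem (D.inv_mem hk) hsD) hk
  rw [subgroupOf_eq_top] at htop
  -- p-elements of D are in P
  have hPmem : ∀ u ∈ D, ∀ k : ℕ, orderOf u = p ^ k → u ∈ (P : Subgroup G) := by
    intro u hu k hk
    obtain ⟨Q, huQ, hQD⟩ := exists_sylow_mem_le hDi hu hk
    obtain ⟨c, hc, hcQ⟩ := sylow_conj_of_le hPD hQD
    have hcN := hM₀N (htop hc)
    have h1 := (mem_normalizer_iff.1 hcN (c⁻¹ * u * c)).1 ((hcQ u).1 huQ)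
    simpa [mul_assoc] using h1
  -- p-elements with class size prime to that of b are in every Sylow
  have hevery : ∀ (h : G) (k : ℕ), orderOf h = p ^ k → (cs h).Coprime (cs b) →
      ∀ Q : Sylow p G, h ∈ (Q : Subgroup G) := by
    intro h k hk hcop Q
    obtain ⟨c, rfl⟩ := MulAction.exists_smul_eq G P Q
    have h1 : c⁻¹ * h * c ∈ (P : Subgroup G) := by
      refine hPmem _ ?_ k ?_
      · rw [hD, mem_centralizer_singleton_iff]
        have h2 := (comm_all_of_not_dvd hk hcop hpb c).map (MulAut.conj c⁻¹).toMonoidHom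
        have e : c⁻¹ * (c * b * c⁻¹) * c⁻¹⁻¹ = b := by group
        have h2' : Commute (c⁻¹ * h * c⁻¹⁻¹) (c⁻¹ * (c * b * c⁻¹) * c⁻¹⁻¹) := h2
        rw [e, inv_inv] at h2'
        exact h2'
      · rw [← hk]
        have := orderOf_injective (MulAut.conj c⁻¹).toMonoidHom (MulAut.conj c⁻¹).injective h
        simpa [mul_assoc] using this
    show h ∈ MulAut.conj c • (P : Subgroup G)
    exact (mem_smul_pointwise_iff_exists _ _ _).2
      ⟨_, h1, by simp [MulAut.smul_def, mul_assoc]⟩
  have ha' : ∀ Q : Sylow p G, a ∈ (Q : Subgroup G) :=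
    hevery a 1 (by rw [pow_one, ha]) hco
  have hout : ∀ h ∈ (P : Subgroup G), ¬ Commute a h → ∀ Q : Sylow p G, h ∈ (Q : Subgroup G) := by
    intro h hh hah
    obtain ⟨k, hk⟩ := Cfsg.Agent.Element.orderOf_eq_pow_of_mem_isPGroup P.isPGroup' hh
    have h1 : h ≠ 1 := by rintro rfl; exact hah (Commute.one_right a)
    have hpd : p ∣ orderOf h := by
      rcases k with - | k
      · exact absurd (orderOf_eq_one_iff.1 (by simpa using hk)) h1
      · rw [hk]; exact dvd_pow_self _ (Nat.succ_ne_zero k)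
    have hph : p ∣ cs h := by
      by_contra hn
      obtain ⟨Q, hQ⟩ := exists_sylow_le_of_not_dvd hn
      exact hah (mem_centralizer_singleton_iff.1 (hQ (ha' Q)))
    refine hevery h k hk ?_
    rcases far h hpd with h' | h'
    · exact absurd h' (Nat.Prime.not_coprime_iff_dvd.2 ⟨p, hp.out, hph, hpa⟩)
    · exact h'
  obtain ⟨h₀, h₀P, h₀a⟩ : ∃ h ∈ (P : Subgroup G), ¬ Commute a h := by
    by_contra hcon
    push Not at hcon
    have hle : (P : Subgroup G) ≤ centralizer ({a} : Set G) := fun h hh =>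
      mem_centralizer_singleton_iff.2 (hcon h hh).symm
    exact P.not_dvd_index (dvd_trans hpa (index_dvd_of_le hle))
  have hall : ∀ Q : Sylow p G, (P : Subgroup G) ≤ (Q : Subgroup G) := by
    intro Q h hh
    by_cases hah : Commute a h
    · have h2 : ¬ Commute a (h₀ * h) := by
        intro hc
        have := hc.mul_right hah.inv_right
        rw [mul_inv_cancel_right] at this
        exact h₀a this
      have := mul_mem (inv_mem (hout h₀ h₀P h₀a Q)) (hout _ (mul_mem h₀P hh) h2 Q)
      simpa using this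
    · exact hout h hh hah Q
  have huniq : ∀ Q : Sylow p G, Q = P := fun Q =>
    Sylow.ext (P.is_maximal' Q.isPGroup' (hall Q))
  haveI hPn : (P : Subgroup G).Normal := by
    refine ⟨fun x hx g => ?_⟩
    have := huniq (g • P)
    rw [← this]
    show g * x * g⁻¹ ∈ MulAut.conj g • (P : Subgroup G)
    exact smul_mem_pointwise_smul _ _ _ hx
  -- classes of non-central elements of P
  have hclass : ∀ e ∈ (P : Subgroup G), (∃ f ∈ (P : Subgroup G), ¬ Commute e f) →
      ∀ g : G, ∃ π ∈ (P : Subgroup G), g * e * g⁻¹ = π * e * π⁻¹ := by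
    intro e he hf g
    obtain ⟨f, hfP, hef⟩ := hf
    obtain ⟨k, hk⟩ := Cfsg.Agent.Element.orderOf_eq_pow_of_mem_isPGroup P.isPGroup' he
    have hpd : p ∣ orderOf e := by
      rcases k with - | k
      · exact absurd (orderOf_eq_one_iff.1 (by simpa using hk) ▸ Commute.one_left f) hef
      · rw [hk]; exact dvd_pow_self _ (Nat.succ_ne_zero k)
    have hpe : p ∣ cs e := by
      by_contra hn
      obtain ⟨Q, hQ⟩ := exists_sylow_le_of_not_dvd hn
      rw [huniq Q] at hQ
      exact hef ((mem_centralizer_singleton_iff.1 (hQ hfP)).symm)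
    have hce : (cs e).Coprime (cs b) := by
      rcases far e hpd with h' | h'
      · exact absurd h' (Nat.Prime.not_coprime_iff_dvd.2 ⟨p, hp.out, hpe, hpa⟩)
      · exact h'
    obtain ⟨x, hx, y, hy, rfl⟩ := Cfsg.Agent.ClassSize.mul_eq_univ_of_coprime_index hce g
    obtain ⟨π, hπ, c, hc, rfl⟩ := mem_sup_of_normal_left.1 (htop hy)
    refine ⟨x * π * x⁻¹, hPn.conj_mem π hπ x, ?_⟩
    have h1 : e * c = c * e := hc.1 e he
    have h2 : x * e * x⁻¹ = e := by
      rw [mem_centralizer_singleton_iff] at hx; rw [hx, mul_inv_cancel_right]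
    have h3 : c * e * c⁻¹ = e := by rw [← h1, mul_inv_cancel_right]
    calc x * (π * c) * e * (x * (π * c))⁻¹ = x * (π * (c * e * c⁻¹) * π⁻¹) * x⁻¹ := by group
      _ = x * (π * e * π⁻¹) * x⁻¹ := by rw [h3]
      _ = x * π * x⁻¹ * (x * e * x⁻¹) * (x * π * x⁻¹)⁻¹ := by group
      _ = _ := by rw [h2]
  -- a central element of order p
  set Pg := (P : Subgroup G) with hPg
  have hPp : IsPGroup p Pg := P.isPGroup'
  have hP' : commutator Pg ≠ ⊥ := by
    intro h
    apply h₀a
    have hmem : a ∈ Pg := ha' P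
    have h1 : ⁅(⟨a, hmem⟩ : Pg), (⟨h₀, h₀P⟩ : Pg)⁆ ∈ commutator Pg :=
      commutator_mem_commutator (mem_top _) (mem_top _)
    rw [h, mem_bot, commutatorElement_eq_one_iff_commute] at h1
    exact h1.map Pg.subtype
  obtain ⟨⟨c, hc⟩, hc1'⟩ := ne_bot_iff_exists_ne_one.1
    (Cfsg.Agent.PGroup.inf_center_ne_bot hPp (commutator Pg) hP')
  have hc1 : c ≠ 1 := fun h => hc1' (Subtype.ext h)
  have hq : ∀ (g : G) (q : ℕ), q.Prime → q ≠ p → ∀ n : ℕ, g ^ q ^ n = 1 →
      g * (c : G) * g⁻¹ = (c : G) := by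
    intro g q hq hqp n hgn
    let φ : MulAut Pg := MulAut.conjNormal g
    have hφpow : ∀ m : ℕ, φ ^ m = MulAut.conjNormal (g ^ m) := fun m => (map_pow _ g m).symm
    let F : Subgroup Pg := φ.toMonoidHom.eqLocus (MonoidHom.id Pg)
    let Φ : Subgroup Pg := center Pg ⊔ frattini Pg
    have hΦ : ∀ x, φ x ∈ Φ ↔ x ∈ Φ := by
      intro x
      have hmap : Φ.map φ.toMonoidHom = Φ := by
        rw [show Φ = center Pg ⊔ frattini Pg from rfl, Subgroup.map_sup,
          characteristic_iff_map_eq.1 inferInstance φ, characteristic_iff_map_eq.1 inferInstance φ]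
      conv_lhs => rw [← hmap]
      exact mem_map_iff_mem φ.injective
    have hcomΦ : ∀ x y : Pg, x * y * x⁻¹ * y⁻¹ ∈ Φ := fun x y =>
      mem_sup_right (Cfsg.Agent.PGroup.commutatorElement_mem_frattini hPp x y)
    haveI : Φ.Normal := sup_normal _ _
    have hcover : ∀ e : Pg, e ∉ Φ → ∃ y ∈ F, e⁻¹ * y ∈ Φ := by
      intro e he
      have hec : ∃ f ∈ Pg, ¬ Commute (e : G) f := by
        by_contra hcon
        push Not at hcon
        exact he (mem_sup_left (mem_center_iff.2 fun f => Subtype.ext (hcon f f.2).symm.eq))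
      obtain ⟨π, hπ, hπe⟩ := hclass e e.2 hec g
      have hφe : e⁻¹ * φ e ∈ Φ := by
        have : φ e = ⟨π, hπ⟩ * e * (⟨π, hπ⟩)⁻¹ := Subtype.ext hπe
        rw [this]
        have := hcomΦ e⁻¹ ⟨π, hπ⟩
        simpa [mul_assoc] using this
      have hinv : ∀ y : Pg, e⁻¹ * φ y ∈ Φ ↔ e⁻¹ * y ∈ Φ := by
        intro y
        have e1 : e⁻¹ * φ y = (e⁻¹ * φ e) * φ (e⁻¹ * y) := by rw [map_mul, map_inv]; group
        rw [e1, Φ.mul_mem_cancel_left hφe, hΦ]
      let σ : Equiv.Perm {y : Pg // e⁻¹ * y ∈ Φ} :=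
        Equiv.Perm.subtypePerm φ.toEquiv (fun y => hinv y)
      haveI : Fintype {y : Pg // e⁻¹ * y ∈ Φ} := Fintype.ofFinite _
      have hcard : ¬ q ∣ Fintype.card {y : Pg // e⁻¹ * y ∈ Φ} := by
        rw [← Nat.card_eq_fintype_card,
          Nat.card_congr (show {y : Pg // e⁻¹ * y ∈ Φ} ≃ {z : Pg // z ∈ Φ} from
            Equiv.subtypeEquiv (Equiv.mulLeft e⁻¹) (fun y => Iff.rfl))]
        obtain ⟨j, hj⟩ := IsPGroup.iff_card.1 (hPp.to_subgroup Φ)
        rw [show Nat.card {z : Pg // z ∈ Φ} = Nat.card Φ from rfl, hj]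
        exact fun hd => hqp ((Nat.prime_dvd_prime_iff_eq hq hp.out).1 (hq.dvd_of_dvd_pow hd))
      have hσ : σ ^ q ^ n = 1 := by
        refine Equiv.ext fun y => Subtype.ext ?_
        have : ∀ m : ℕ, (((σ ^ m) y) : Pg) = (φ ^ m) (y : Pg) := by
          intro m
          induction m with
          | zero => rfl
          | succ m ih =>
            rw [pow_succ', pow_succ', Equiv.Perm.mul_apply, MulAut.mul_apply, ← ih]; rfl
        rw [this, hφpow, hgn, map_one]; rfl
      haveI := Fact.mk hq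
      obtain ⟨y, hy⟩ := Equiv.Perm.exists_fixed_point_of_prime hcard hσ
      exact ⟨y.1, congrArg Subtype.val hy, y.2⟩
    have hFtop : F ⊔ center Pg = ⊤ := by
      apply Cfsg.Agent.PGroup.eq_top_of_sup_frattini
      rw [sup_assoc, eq_top_iff]
      intro e _
      by_cases he : e ∈ Φ
      · exact mem_sup_right he
      · obtain ⟨y, hy, hey⟩ := hcover e he
        have := mul_mem (mem_sup_left hy : y ∈ F ⊔ Φ) (mem_sup_right (Φ.inv_mem hey))
        simpa using this
    have hcF : commutator Pg ≤ F := by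
      rw [_root_.commutator_def, commutator_le]
      intro x _ y _
      obtain ⟨u, hu, z, hz, rfl⟩ := mem_sup_of_normal_right.1 (hFtop ▸ mem_top x)
      obtain ⟨u', hu', z', hz', rfl⟩ := mem_sup_of_normal_right.1 (hFtop ▸ mem_top y)
      rw [mem_center_iff] at hz hz'
      have e : ⁅u * z, u' * z'⁆ = ⁅u, u'⁆ := by
        simp only [commutatorElement_def, mul_inv_rev]
        calc u * z * (u' * z') * (z⁻¹ * u⁻¹) * (z'⁻¹ * u'⁻¹)
            = u * (z * (u' * z')) * z⁻¹ * u⁻¹ * z'⁻¹ * u'⁻¹ := by group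
          _ = u * u' * (z' * u⁻¹) * z'⁻¹ * u'⁻¹ := by rw [← hz (u' * z')]; group
          _ = _ := by rw [← hz' u⁻¹]; group
      rw [e, commutatorElement_def]
      exact F.mul_mem (F.mul_mem (F.mul_mem hu hu') (F.inv_mem hu)) (F.inv_mem hu')
    have := congrArg Subtype.val (show φ c = c from hcF hc.1)
    exact this
  apply hZ
  have hcen : (c : G) ∈ center G := by
    rw [← Cfsg.Agent.ClassSize.index_centralizer_eq_one_iff]
    by_contra hne
    obtain ⟨q, hqp, hqd⟩ := Nat.exists_prime_and_dvd hne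
    haveI := Fact.mk hqp
    obtain ⟨Q⟩ : Nonempty (Sylow q G) := inferInstance
    refine Q.not_dvd_index (hqd.trans (index_dvd_of_le fun g hg => ?_))
    rw [mem_centralizer_singleton_iff]
    by_cases h : q = p
    · subst h
      rw [huniq Q] at hg
      exact congrArg Subtype.val (mem_center_iff.1 hc.2 ⟨g, hg⟩)
    · obtain ⟨n, hn⟩ := Q.isPGroup' ⟨g, hg⟩
      exact mul_inv_eq_iff_eq_mul.1 (hq g q hqp h n (by simpa using congrArg Subtype.val hn))
  obtain ⟨k, hk⟩ := Cfsg.Agent.Element.orderOf_eq_pow_of_mem_isPGroup hPp c.2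
  have h1 : (c : G) ≠ 1 := fun e => hc1 (Subtype.ext e)
  rcases k with - | k
  · exact absurd (orderOf_eq_one_iff.1 (by simpa using hk)) h1
  · have := orderOf_dvd_natCard (⟨(c : G), hcen⟩ : center G)
    rw [orderOf_mk, hk] at this
    exact (dvd_pow_self p (Nat.succ_ne_zero k)).trans this

/-- Two elements of order `p`: their class sizes are joined by a path of length at most one. -/
theorem exists_link (hZ : ¬ p ∣ Nat.card (center G)) {a b : G} (ha : orderOf a = p)
    (hb : orderOf b = p) :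
    ∃ t u : ℕ, t.Prime ∧ u.Prime ∧ t ∣ cs a ∧ u ∣ cs b ∧
      (t = u ∨ ∃ e : G, p ∣ orderOf e ∧ t * u ∣ cs e) := by
  classical
  have hne : ∀ {z : G}, orderOf z = p → cs z ≠ 1 := by
    intro z hz h
    rw [cs_eq_one] at h
    apply hZ
    have := orderOf_dvd_natCard (⟨z, h⟩ : center G)
    rwa [orderOf_mk, hz] at this
  by_cases hco : (cs a).Coprime (cs b)
  swap
  · obtain ⟨t, ht, h1, h2⟩ := Nat.Prime.not_coprime_iff_dvd.1 hco
    exact ⟨t, t, ht, ht, h1, h2, Or.inl rfl⟩
  by_cases far : ∀ e : G, p ∣ orderOf e → (cs e).Coprime (cs a) ∨ (cs e).Coprime (cs b)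
  swap
  · push Not at far
    obtain ⟨e, he, h1, h2⟩ := far
    obtain ⟨t, ht, ht1, ht2⟩ := Nat.Prime.not_coprime_iff_dvd.1 h1
    obtain ⟨u, hu, hu1, hu2⟩ := Nat.Prime.not_coprime_iff_dvd.1 h2
    have htu : t ≠ u := fun e' =>
      (Nat.Prime.not_coprime_iff_dvd.2 ⟨t, ht, ht2, e' ▸ hu2⟩) hco
    exact ⟨t, u, ht, hu, ht2, hu2, Or.inr ⟨e, he,
      ((Nat.coprime_primes ht hu).2 htu).mul_dvd_of_dvd_of_dvd ht1 hu1⟩⟩
  exfalso
  by_cases hpa : p ∣ cs a
  · exact far_false hZ ha hb hco hpa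
      (fun h => Nat.Prime.not_coprime_iff_dvd.2 ⟨p, hp.out, hpa, h⟩ hco) far
  by_cases hpb : p ∣ cs b
  · exact far_false hZ hb ha hco.symm hpb hpa (fun e he => (far e he).symm)
  have h1 := not_coprime_mul (k := 1) (by rw [pow_one, ha]) hco hpb (hne ha)
  have h2 := not_coprime_mul (k := 1) (by rw [pow_one, hb]) hco.symm hpa (hne hb)
  have hcomm : Commute a b := by
    simpa using comm_all_of_not_dvd (k := 1) (by rw [pow_one, ha]) hco hpb 1
  rw [← hcomm.eq] at h2
  have hne1 : a * b ≠ 1 := by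
    intro h
    apply hne ha
    have hinv : b = a⁻¹ := eq_inv_of_mul_eq_one_right h
    have hz : cs b = cs a := by
      have hs : centralizer ({b} : Set G) = centralizer ({a} : Set G) := by
        ext x; simp only [mem_centralizer_singleton_iff, hinv]
        exact ⟨fun h => (Commute.inv_right_iff.1 h), fun h => Commute.inv_right_iff.2 h⟩
      simp only [cs, hs]
    exact Nat.coprime_self _ |>.1 (hz ▸ hco)
  have hpe : p ∣ orderOf (a * b) := by
    have h3 : (a * b) ^ p = 1 := by
      rw [hcomm.mul_pow]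
      conv_lhs => arg 1; rw [← ha, pow_orderOf_eq_one]
      rw [one_mul, ← hb, pow_orderOf_eq_one]
    exact (orderOf_eq_prime h3 hne1).symm.dvd
  rcases far _ hpe with h | h
  · exact h1 h
  · exact h2 h

end Cfsg.Agent.PSingular
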